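import Mathlib
import Groth.Prelude.Def_EtRam
import Groth.Agent.Lib.Helper50.GeomReduced

/-!
# Formally smooth extensions of valuation subrings: composition, cancellation, transport (helper9)
-/

universe u

open IsLocalRing EtRam TensorProduct

namespace Groth.Agent.Lib.Helper9.SHSquare

section Trans

/-- separable (geometrically reduced) field extensions compose. -/
theorem isGeometricallyReduced_trans (k F E : Type u) [Field k] [Field F] [Field E]
    [Algebra k F] [Algebra F E] [Algebra k E] [IsScalarTower k F E]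
    [Algebra.IsGeometricallyReduced k F] [Algebra.IsGeometricallyReduced F E] :
    Algebra.IsGeometricallyReduced k E := by
  rw [Algebra.isGeometricallyReduced_field_iff]
  obtain ⟨Ω, hΩ⟩ : ∃ Ω : Type u, Ω = AlgebraicClosure k := ⟨_, rfl⟩
  subst hΩ
  have h0 : IsReduced (AlgebraicClosure k ⊗[k] F) :=
    Groth.Agent.Lib.Helper50.isReduced_tensor_of_isGeometricallyReduced
  have h1 : IsReduced (F ⊗[k] AlgebraicClosure k) :=
    isReduced_of_injective (Algebra.TensorProduct.comm k F (AlgebraicClosure k))
      (Algebra.TensorProduct.comm k F (AlgebraicClosure k)).injective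
  have h2 : IsReduced ((F ⊗[k] AlgebraicClosure k) ⊗[F] E) := by
    apply Groth.Agent.Lib.Helper50.isReduced_tensor_of_fibers
    intro p
    exact Groth.Agent.Lib.Helper50.isReduced_tensor_of_isGeometricallyReduced
  have h3 : IsReduced (E ⊗[F] (F ⊗[k] AlgebraicClosure k)) :=
    isReduced_of_injective (Algebra.TensorProduct.comm F E (F ⊗[k] AlgebraicClosure k))
      (Algebra.TensorProduct.comm F E (F ⊗[k] AlgebraicClosure k)).injective
  have h4 : IsReduced (E ⊗[k] AlgebraicClosure k) :=
    isReduced_of_injective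
      (Algebra.TensorProduct.cancelBaseChange k F F E (AlgebraicClosure k)).symm
      (Algebra.TensorProduct.cancelBaseChange k F F E (AlgebraicClosure k)).symm.injective
  exact isReduced_of_injective (Algebra.TensorProduct.comm k (AlgebraicClosure k) E)
    (Algebra.TensorProduct.comm k (AlgebraicClosure k) E).injective

end Trans

section FSdef

variable {K₁ M : Type u} [Field K₁] [Field M]

/-- `W ∩ K₁ → W` is weakly unramified with separable residue field extension. -/
def FS (W : ValuationSubring M) (f : K₁ →+* M) : Prop :=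
  (@IsWeaklyUnramified (W.comap f) W _ _ _ _ (inclOfComap W f).toAlgebra) ∧
    @Algebra.IsGeometricallyReduced (ResidueField (W.comap f)) (ResidueField W) _ _
      (IsLocalRing.ResidueField.map (inclOfComap W f)).toAlgebra

theorem FS.congr_hom {W : ValuationSubring M} {f f' : K₁ →+* M} (h : f = f') (H : FS W f) :
    FS W f' := by
  subst h
  exact H

theorem FS.congr_subring {W W' : ValuationSubring M} {f : K₁ →+* M} (h : W = W') (H : FS W f) :
    FS W' f := by
  subst h
  exact H

end FSdef

section Abs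

variable {R₁ R₂ R₃ : Type u} [CommRing R₁] [IsLocalRing R₁] [CommRing R₂] [IsLocalRing R₂]
  [CommRing R₃] [IsLocalRing R₃]

/-- composition, abstract form. -/
theorem fs_comp_abs (i₁ : R₁ →+* R₂) (i₂ : R₂ →+* R₃) (i : R₁ →+* R₃) [IsLocalHom i₁]
    [IsLocalHom i₂] (hloc : IsLocalHom i) (hi : i = i₂.comp i₁)
    (H₁ : (maximalIdeal R₁).map i₁ = maximalIdeal R₂ ∧
      @Algebra.IsGeometricallyReduced (ResidueField R₁) (ResidueField R₂) _ _
        (ResidueField.map i₁).toAlgebra)
    (H₂ : (maximalIdeal R₂).map i₂ = maximalIdeal R₃ ∧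
      @Algebra.IsGeometricallyReduced (ResidueField R₂) (ResidueField R₃) _ _
        (ResidueField.map i₂).toAlgebra) :
    (maximalIdeal R₁).map i = maximalIdeal R₃ ∧
      @Algebra.IsGeometricallyReduced (ResidueField R₁) (ResidueField R₃) _ _
        (ResidueField.map i).toAlgebra := by
  subst hi
  constructor
  · rw [← Ideal.map_map, H₁.1, H₂.1]
  · letI a₁ : Algebra (ResidueField R₁) (ResidueField R₂) := (ResidueField.map i₁).toAlgebra
    letI a₂ : Algebra (ResidueField R₂) (ResidueField R₃) := (ResidueField.map i₂).toAlgebra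
    letI a : Algebra (ResidueField R₁) (ResidueField R₃) :=
      (ResidueField.map (i₂.comp i₁)).toAlgebra
    haveI : IsScalarTower (ResidueField R₁) (ResidueField R₂) (ResidueField R₃) :=
      IsScalarTower.of_algebraMap_eq (fun x => by
        show ResidueField.map (i₂.comp i₁) x = ResidueField.map i₂ (ResidueField.map i₁ x)
        rw [ResidueField.map_map])
    haveI g₁ : Algebra.IsGeometricallyReduced (ResidueField R₁) (ResidueField R₂) := H₁.2
    haveI g₂ : Algebra.IsGeometricallyReduced (ResidueField R₂) (ResidueField R₃) := H₂.2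
    exact isGeometricallyReduced_trans (ResidueField R₁) (ResidueField R₂) (ResidueField R₃)

/-- cancellation of the residue field part, abstract form. -/
theorem gr_cancel_abs (i₁ : R₁ →+* R₂) (i₂ : R₂ →+* R₃) (i : R₁ →+* R₃) [IsLocalHom i₁]
    [IsLocalHom i₂] (hloc : IsLocalHom i) (hi : i = i₂.comp i₁)
    (H : @Algebra.IsGeometricallyReduced (ResidueField R₁) (ResidueField R₃) _ _
        (ResidueField.map i).toAlgebra) :
    @Algebra.IsGeometricallyReduced (ResidueField R₁) (ResidueField R₂) _ _
        (ResidueField.map i₁).toAlgebra := by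
  subst hi
  letI a₁ : Algebra (ResidueField R₁) (ResidueField R₂) := (ResidueField.map i₁).toAlgebra
  letI a : Algebra (ResidueField R₁) (ResidueField R₃) :=
    (ResidueField.map (i₂.comp i₁)).toAlgebra
  haveI g : Algebra.IsGeometricallyReduced (ResidueField R₁) (ResidueField R₃) := H
  let φ : ResidueField R₂ →ₐ[ResidueField R₁] ResidueField R₃ :=
    { ResidueField.map i₂ with
      commutes' := fun x => by
        show ResidueField.map i₂ (ResidueField.map i₁ x) = ResidueField.map (i₂.comp i₁) x
        rw [ResidueField.map_map] }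
  exact Algebra.IsGeometricallyReduced.of_injective φ (RingHom.injective _)

end Abs

section Comp

variable {K₁ F M : Type u} [Field K₁] [Field F] [Field M]

/-- composition of formally smooth extensions. -/
theorem FS.comp (W : ValuationSubring M) (f₁ : K₁ →+* F) (f₂ : F →+* M)
    (H₁ : FS (W.comap f₂) f₁) (H₂ : FS W f₂) : FS W (f₂.comp f₁) := by
  have hi : (inclOfComap W (f₂.comp f₁) : ↥((W.comap f₂).comap f₁) →+* ↥W) =
      (inclOfComap W f₂).comp (inclOfComap (W.comap f₂) f₁) :=
    RingHom.ext fun x => Subtype.ext rfl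
  haveI : IsLocalHom (inclOfComap W (f₂.comp f₁) : ↥((W.comap f₂).comap f₁) →+* ↥W) :=
    isLocalHom_inclOfComap W (f₂.comp f₁)
  exact fs_comp_abs (inclOfComap (W.comap f₂) f₁) (inclOfComap W f₂)
    (inclOfComap W (f₂.comp f₁) : ↥((W.comap f₂).comap f₁) →+* ↥W)
    (isLocalHom_inclOfComap W (f₂.comp f₁)) hi H₁ H₂

/-- cancellation: if `W ∩ K₁ → W` is formally smooth then so is `W ∩ K₁ → W ∩ F`. -/
theorem FS.cancel (W : ValuationSubring M) (f₁ : K₁ →+* F) (f₂ : F →+* M)
    [IsDiscreteValuationRing ((W.comap f₂).comap f₁)]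
    (H : FS W (f₂.comp f₁)) : FS (W.comap f₂) f₁ := by
  have hi : (inclOfComap W (f₂.comp f₁) : ↥((W.comap f₂).comap f₁) →+* ↥W) =
      (inclOfComap W f₂).comp (inclOfComap (W.comap f₂) f₁) :=
    RingHom.ext fun x => Subtype.ext rfl
  haveI : IsLocalHom (inclOfComap W (f₂.comp f₁) : ↥((W.comap f₂).comap f₁) →+* ↥W) :=
    isLocalHom_inclOfComap W (f₂.comp f₁)
  constructor
  · show (maximalIdeal ((W.comap f₂).comap f₁)).map (inclOfComap (W.comap f₂) f₁) =
      maximalIdeal (W.comap f₂)
    apply le_antisymm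
    · rw [Ideal.map_le_iff_le_comap]
      intro x hx
      exact (mem_maximalIdeal _).mpr (fun hu =>
        ((mem_maximalIdeal _).mp hx) (isUnit_of_map_unit (inclOfComap (W.comap f₂) f₁) x hu))
    · intro x hx
      obtain ⟨ϖ, hϖ⟩ := IsDiscreteValuationRing.exists_irreducible ((W.comap f₂).comap f₁)
      have h1 : (maximalIdeal ((W.comap f₂).comap f₁)).map
          (inclOfComap W (f₂.comp f₁) : ↥((W.comap f₂).comap f₁) →+* ↥W) = maximalIdeal W := H.1
      have hxW : inclOfComap W f₂ x ∈ maximalIdeal W :=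
        (mem_maximalIdeal _).mpr (fun hu =>
          ((mem_maximalIdeal _).mp hx) (isUnit_of_map_unit (inclOfComap W f₂) x hu))
      rw [← h1, hϖ.maximalIdeal_eq, Ideal.map_span, Set.image_singleton,
        Ideal.mem_span_singleton] at hxW
      obtain ⟨w, hw⟩ := hxW
      have hw' : f₂ (x : F) = f₂ (f₁ (ϖ : K₁)) * (w : M) := congrArg Subtype.val hw
      have hϖ0 : f₁ (ϖ : K₁) ≠ 0 := by
        intro h
        have h2 : (ϖ : K₁) = 0 := f₁.injective (by rw [h, map_zero])
        exact hϖ.ne_zero (Subtype.ext h2)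
      have hy : (x : F) / f₁ (ϖ : K₁) ∈ W.comap f₂ := by
        show f₂ ((x : F) / f₁ (ϖ : K₁)) ∈ W
        rw [map_div₀, hw', mul_div_assoc, mul_comm, div_mul_cancel₀ _ ((map_ne_zero f₂).mpr hϖ0)]
        exact w.2
      have hx' : x = inclOfComap (W.comap f₂) f₁ ϖ * ⟨_, hy⟩ := by
        apply Subtype.ext
        show (x : F) = f₁ (ϖ : K₁) * ((x : F) / f₁ (ϖ : K₁))
        rw [mul_div_cancel₀ _ hϖ0]
      rw [hx']
      exact Ideal.mul_mem_right _ _ (Ideal.mem_map_of_mem _ ((mem_maximalIdeal _).mpr hϖ.not_isUnit))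
  · exact gr_cancel_abs (inclOfComap (W.comap f₂) f₁) (inclOfComap W f₂)
      (inclOfComap W (f₂.comp f₁) : ↥((W.comap f₂).comap f₁) →+* ↥W)
      (isLocalHom_inclOfComap W (f₂.comp f₁)) hi H.2

end Comp

end Groth.Agent.Lib.Helper9.SHSquare
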