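import Mathlib
import Groth.Prelude.Def_Hensel
import Groth.Agent.Lib.Helper9.HensK.StrictUnique
import Groth.Agent.Lib.Helper9.Hens.NoetherianHens

/-!
# The strict henselization of a discrete valuation ring is a discrete valuation ring (helper9)
-/

universe u

open IsLocalRing

namespace Groth.Agent.Lib.Helper9.SHSquare

section Recognize

variable {S : Type*} [CommRing S] [IsLocalRing S] [IsNoetherianRing S]

/-- every nonzero element is a unit times a power of the generator of the maximal ideal. -/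
theorem exists_eq_unit_mul_pow (ϖ : S) (hm : maximalIdeal S = Ideal.span {ϖ}) (x : S)
    (hx : x ≠ 0) : ∃ (n : ℕ) (u : S), IsUnit u ∧ x = u * ϖ ^ n := by
  classical
  have hK : ⨅ i : ℕ, maximalIdeal S ^ i = ⊥ :=
    Ideal.iInf_pow_eq_bot_of_isLocalRing _ (Ideal.IsPrime.ne_top inferInstance)
  have hex : ∃ n : ℕ, x ∉ maximalIdeal S ^ n := by
    by_contra hcon
    push Not at hcon
    have h1 : x ∈ ⨅ i : ℕ, maximalIdeal S ^ i := by
      rw [Ideal.mem_iInf]
      exact hcon
    rw [hK, Ideal.mem_bot] at h1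
    exact hx h1
  obtain ⟨n, hn, hmin⟩ : ∃ n, x ∉ maximalIdeal S ^ n ∧ ∀ k < n, x ∈ maximalIdeal S ^ k :=
    ⟨Nat.find hex, Nat.find_spec hex, fun k hk => by
      by_contra h
      exact Nat.find_min hex hk h⟩
  have hn0 : n ≠ 0 := by
    rintro rfl
    apply hn
    rw [pow_zero, Ideal.one_eq_top]
    trivial
  obtain ⟨k, rfl⟩ : ∃ k, n = k + 1 := ⟨n - 1, by omega⟩
  have h1 := hmin k (Nat.lt_succ_self k)
  rw [hm, Ideal.span_singleton_pow, Ideal.mem_span_singleton] at h1
  obtain ⟨y, rfl⟩ := h1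
  refine ⟨k, y, ?_, mul_comm _ _⟩
  by_contra hy
  apply hn
  have hy' : y ∈ maximalIdeal S := (mem_maximalIdeal _).mpr hy
  rw [pow_succ]
  exact Ideal.mul_mem_mul (by
    rw [hm, Ideal.span_singleton_pow]
    exact Ideal.mem_span_singleton_self _) hy'

/-- a Noetherian local ring whose maximal ideal is generated by a nonzerodivisor is a DVR. -/
theorem isDVR_of_principal (ϖ : S) (hm : maximalIdeal S = Ideal.span {ϖ})
    (hreg : ϖ ∈ nonZeroDivisors S) : ∃ (_ : IsDomain S), IsDiscreteValuationRing S := by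
  have hpow0 : ∀ n : ℕ, ϖ ^ n ≠ 0 := fun n =>
    nonZeroDivisors.ne_zero (pow_mem hreg n)
  haveI : NoZeroDivisors S := by
    refine ⟨fun {x y} hxy => ?_⟩
    by_contra hcon
    push Not at hcon
    obtain ⟨a, u, hu, rfl⟩ := exists_eq_unit_mul_pow ϖ hm x hcon.1
    obtain ⟨b, v, hv, rfl⟩ := exists_eq_unit_mul_pow ϖ hm y hcon.2
    have h1 : u * ϖ ^ a * (v * ϖ ^ b) = (u * v) * ϖ ^ (a + b) := by rw [pow_add]; ring
    rw [h1] at hxy
    have h2 : ϖ ^ (a + b) = 0 := by
      have := (hu.mul hv).mul_right_eq_zero.mp hxy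
      exact this
    exact hpow0 _ h2
  haveI hdom : IsDomain S := NoZeroDivisors.to_isDomain S
  refine ⟨hdom, ?_⟩
  apply IsDiscreteValuationRing.ofHasUnitMulPowIrreducibleFactorization
  refine ⟨ϖ, IsDiscreteValuationRing.irreducible_of_span_eq_maximalIdeal ϖ (by simpa using hpow0 1) hm,
    fun {x} hx => ?_⟩
  obtain ⟨n, u, hu, rfl⟩ := exists_eq_unit_mul_pow ϖ hm x hx
  refine ⟨n, ?_⟩
  obtain ⟨u', rfl⟩ := hu
  exact ⟨u', by rw [mul_comm]⟩

end Recognize

section SH

variable (A : Type u) [CommRing A] [IsDomain A] [IsDiscreteValuationRing A]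
  (S : Type u) [CommRing S] [IsLocalRing S] [Algebra A S] [IsLocalHom (algebraMap A S)]
  [Hensel.IsStrictHenselization A S]

include A in
/-- a strict henselization of a DVR is a DVR. -/
theorem isDVR_of_isStrictHenselization : ∃ (_ : IsDomain S), IsDiscreteValuationRing S := by
  haveI : IsNoetherianRing S := (isNoetherianRing_iff_of_isStrictHenselization A S).mp inferInstance
  haveI : Module.Flat A S := HensK.flat_of_isStrictHenselization A S
  obtain ⟨ϖ, hϖ⟩ := IsDiscreteValuationRing.exists_irreducible A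
  have hm : maximalIdeal S = Ideal.span {algebraMap A S ϖ} := by
    rw [← HensK.map_maximalIdeal_of_isStrictHenselization A S, hϖ.maximalIdeal_eq,
      Ideal.map_span, Set.image_singleton]
  refine isDVR_of_principal (algebraMap A S ϖ) hm ?_
  have h1 : IsSMulRegular A ϖ := by
    intro a b hab
    exact mul_left_cancel₀ hϖ.ne_zero hab
  have h2 : IsSMulRegular S (algebraMap A S ϖ) := h1.of_flat
  rw [mem_nonZeroDivisors_iff_right]
  intro x hx
  apply h2
  show algebraMap A S ϖ * x = algebraMap A S ϖ * 0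
  rw [mul_zero, mul_comm]
  exact hx

end SH

end Groth.Agent.Lib.Helper9.SHSquare
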