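import Mathlib
import Groth.Prelude.Def_EtRam
import Groth.Agent.Lib.Helper9.SHSquare.FS
import Groth.Agent.Lib.Helper9.SepSol.Descent

/-!
# Applying a solution to a compositum given by ring homomorphisms (helper9)
-/

universe u

open IsLocalRing EtRam

namespace Groth.Agent.Lib.Helper9.SHSquare

open Groth.Agent.Lib.Helper9

section Apply

variable (B K L K₁ : Type u) [CommRing B] [IsLocalRing B] [Field K] [Field L] [Field K₁]
  [Algebra K L] [Algebra K K₁] [Algebra B L]

/-- a solution, applied to a compositum described by ring homomorphisms. -/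
theorem apply_solution (hsol : IsSolution B K L K₁) (M : Type u) [Field M] (φL : L →+* M)
    (φ₁ : K₁ →+* M) (hcompat : ∀ c : K, φL (algebraMap K L c) = φ₁ (algebraMap K K₁ c))
    (hgen : @Algebra.adjoin L M _ _ φL.toAlgebra (Set.range φ₁) = ⊤)
    (W : ValuationSubring M) (hdom : Dominates B (φL.comp (algebraMap B L)) W) : FS W φ₁ := by
  letI algLM : Algebra L M := φL.toAlgebra
  letI algK₁M : Algebra K₁ M := φ₁.toAlgebra
  letI algKM : Algebra K M := ((algebraMap L M).comp (algebraMap K L)).toAlgebra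
  haveI towKLM : IsScalarTower K L M := IsScalarTower.of_algebraMap_eq (fun _ => rfl)
  haveI towKK₁M : IsScalarTower K K₁ M := IsScalarTower.of_algebraMap_eq (fun c => hcompat c)
  exact hsol M hgen W hdom

/-- a solution, applied to the compositum inside a bigger field. -/
theorem solution_in_big [Algebra.IsAlgebraic K K₁] (hsol : IsSolution B K L K₁) (Ω : Type u)
    [Field Ω] (φL : L →+* Ω) (φ₁ : K₁ →+* Ω)
    (hcompat : ∀ c : K, φL (algebraMap K L c) = φ₁ (algebraMap K K₁ c))
    (N : Subfield Ω) (hN : N = Subfield.closure (Set.range φL ∪ Set.range φ₁))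
    (hL : ∀ x, φL x ∈ N) (h₁ : ∀ x, φ₁ x ∈ N)
    (WΩ : ValuationSubring Ω) (hdom : Dominates B (φL.comp (algebraMap B L)) WΩ) :
    FS (WΩ.comap N.subtype) (φ₁.codRestrict N h₁) := by
  have hgen := SepSol.Descent.adjoin_eq_top_of_closure φL φ₁ hcompat N hN hL h₁
  refine apply_solution B K L K₁ hsol N (φL.codRestrict N hL) (φ₁.codRestrict N h₁)
    (fun c => Subtype.ext (hcompat c)) hgen (WΩ.comap N.subtype) ⟨fun b => ?_, fun b hb => ?_⟩
  · show φL (algebraMap B L b) ∈ WΩ
    exact hdom.1 b
  · rw [AbhyankarCore.valuation_comap_lt_one_iff]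
    exact hdom.2 b hb

end Apply

end Groth.Agent.Lib.Helper9.SHSquare
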