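import Mathlib
import Groth.Prelude.Def_EtRam
import Groth.Agent.Lib.Helper9.SHSquare.Apply
import Groth.Agent.Lib.Helper9.PISep.Step
import Groth.Agent.Lib.Helper9.KADominates
import Groth.Agent.S1983

/-!
# Solutions ascend to finite extensions (helper9)
-/

universe u

open IsLocalRing EtRam

namespace Groth.Agent.Lib.Helper9.SHSquare

open Groth.Agent.Lib.Helper9

section Ascent

variable (A B K L : Type u) [CommRing A] [IsDomain A] [IsDiscreteValuationRing A]
  [CommRing B] [IsDomain B] [IsDiscreteValuationRing B] [Algebra A B]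
  [IsLocalHom (algebraMap A B)]
  [Field K] [Field L] [Algebra A K] [IsFractionRing A K] [Algebra B L] [IsFractionRing B L]
  [Algebra K L] [Algebra A L] [IsScalarTower A K L] [IsScalarTower A B L]
  (K₁ K₂ : Type u) [Field K₁] [Field K₂] [Algebra K K₁] [Algebra K K₂]
  [Algebra K₁ K₂] [IsScalarTower K K₁ K₂] [FiniteDimensional K K₁] [FiniteDimensional K₁ K₂]

include A in
set_option maxHeartbeats 2000000 in
set_option synthInstance.maxHeartbeats 200000 in
/-- **Solutions ascend to finite extensions.** -/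
theorem ascent (hsol : IsSolution B K L K₁) : IsSolution B K L K₂ := by
  classical
  intro M₂ _ _ _ _ _ _ hgen₂ W₂ hdom₂
  obtain ⟨φ₁, hφ₁⟩ : ∃ φ₁ : K₁ →+* M₂, φ₁ = (algebraMap K₂ M₂).comp (algebraMap K₁ K₂) :=
    ⟨_, rfl⟩
  have hφ₁a : ∀ x, φ₁ x = algebraMap K₂ M₂ (algebraMap K₁ K₂ x) := fun x => by rw [hφ₁]; rfl
  have hcompat : ∀ c : K, algebraMap L M₂ (algebraMap K L c) = φ₁ (algebraMap K K₁ c) := by
    intro c
    rw [hφ₁a, ← IsScalarTower.algebraMap_apply K K₁ K₂, ← IsScalarTower.algebraMap_apply K L M₂,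
      ← IsScalarTower.algebraMap_apply K K₂ M₂]
  obtain ⟨N, hNdef⟩ : ∃ N : Subfield M₂, N = Subfield.closure
      (Set.range (algebraMap L M₂) ∪ Set.range φ₁) := ⟨_, rfl⟩
  have hLN : ∀ x, algebraMap L M₂ x ∈ N := fun x => by
    rw [hNdef]; exact Subfield.subset_closure (Or.inl ⟨x, rfl⟩)
  have h₁N : ∀ x, φ₁ x ∈ N := fun x => by
    rw [hNdef]; exact Subfield.subset_closure (Or.inr ⟨x, rfl⟩)
  haveI : Algebra.IsAlgebraic K K₁ := Algebra.IsAlgebraic.of_finite K K₁
  have hFS₁ : FS (W₂.comap N.subtype) (φ₁.codRestrict N h₁N) :=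
    solution_in_big B K L K₁ hsol M₂ (algebraMap L M₂) φ₁ hcompat N hNdef hLN h₁N W₂ hdom₂
  -- algebra structures on `N`
  letI algLN : Algebra L N := ((algebraMap L M₂).codRestrict N hLN).toAlgebra
  letI algK₁N : Algebra K₁ N := (φ₁.codRestrict N h₁N).toAlgebra
  letI algKN : Algebra K N := ((algebraMap L N).comp (algebraMap K L)).toAlgebra
  haveI towKLN : IsScalarTower K L N := IsScalarTower.of_algebraMap_eq (fun _ => rfl)
  haveI towKK₁N : IsScalarTower K K₁ N :=
    IsScalarTower.of_algebraMap_eq (fun c => Subtype.ext (hcompat c))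
  have hgenN : Algebra.adjoin L (Set.range (algebraMap K₁ N)) = ⊤ :=
    SepSol.Descent.adjoin_eq_top_of_closure (algebraMap L M₂) φ₁ hcompat N hNdef hLN h₁N
  haveI hfdN : Module.Finite L N := PISep.finite_of_adjoin_eq_top K L K₁ N hgenN
  letI algBN : Algebra B N := ((algebraMap L N).comp (algebraMap B L)).toAlgebra
  haveI towBLN : IsScalarTower B L N := IsScalarTower.of_algebraMap_eq (fun _ => rfl)
  letI algAK₁ : Algebra A K₁ := ((algebraMap K K₁).comp (algebraMap A K)).toAlgebra
  haveI towAKK₁ : IsScalarTower A K K₁ := IsScalarTower.of_algebraMap_eq (fun _ => rfl)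
  -- the valuation rings
  obtain ⟨W₁, hW₁⟩ : ∃ W₁ : ValuationSubring N, W₁ = W₂.comap N.subtype := ⟨_, rfl⟩
  rw [← hW₁] at hFS₁
  have hdom₁ : Dominates B (algebraMap B N) W₁ := by
    rw [hW₁]
    refine ⟨fun b => ?_, fun b hb => ?_⟩
    · show algebraMap L M₂ (algebraMap B L b) ∈ W₂
      exact hdom₂.1 b
    · rw [AbhyankarCore.valuation_comap_lt_one_iff]
      exact hdom₂.2 b hb
  haveI hdvrW₁ : IsDiscreteValuationRing W₁ :=
    KADominates.isDiscreteValuationRing_of_dominates_finite B L W₁ hdom₁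
  have hmaxAB : ∀ x : A, x ∈ maximalIdeal A → algebraMap A B x ∈ maximalIdeal B := by
    intro x hx
    exact (mem_maximalIdeal _).mpr (fun hu =>
      ((mem_maximalIdeal _).mp hx) (isUnit_of_map_unit (algebraMap A B) x hu))
  have hcomm₁ : ∀ x : A, algebraMap K₁ N (algebraMap K K₁ (algebraMap A K x)) =
      algebraMap L N (algebraMap B L (algebraMap A B x)) := by
    intro x
    rw [← IsScalarTower.algebraMap_apply K K₁ N, IsScalarTower.algebraMap_apply K L N,
      ← IsScalarTower.algebraMap_apply A K L, ← IsScalarTower.algebraMap_apply A B L]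
  have hdomV₁ : Dominates A (algebraMap A K₁) (W₁.comap (algebraMap K₁ N)) := by
    refine ⟨fun x => ?_, fun x hx => ?_⟩
    · show algebraMap K₁ N (algebraMap K K₁ (algebraMap A K x)) ∈ W₁
      rw [hcomm₁]
      exact hdom₁.1 _
    · rw [AbhyankarCore.valuation_comap_lt_one_iff]
      show W₁.valuation (algebraMap K₁ N (algebraMap K K₁ (algebraMap A K x))) < 1
      rw [hcomm₁]
      exact hdom₁.2 _ (hmaxAB x hx)
  haveI hdvrV₁ : IsDiscreteValuationRing (W₁.comap (algebraMap K₁ N)) :=
    KADominates.isDiscreteValuationRing_of_dominates_finite A K _ hdomV₁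
  -- apply S1983 to `V₁ → W₁`
  letI algV₁W₁ : Algebra (W₁.comap (algebraMap K₁ N)) W₁ :=
    (inclOfComap W₁ (algebraMap K₁ N)).toAlgebra
  haveI locV₁W₁ : IsLocalHom (algebraMap (W₁.comap (algebraMap K₁ N)) W₁) :=
    isLocalHom_inclOfComap W₁ (algebraMap K₁ N)
  have hinjVW : Function.Injective (algebraMap (W₁.comap (algebraMap K₁ N)) W₁) := by
    intro a b hab
    have := congrArg (fun v : W₁ => (v : N)) hab
    exact Subtype.ext ((algebraMap K₁ N).injective this)
  letI algV₁N : Algebra (W₁.comap (algebraMap K₁ N)) N :=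
    ((algebraMap K₁ N).comp (algebraMap (W₁.comap (algebraMap K₁ N)) K₁)).toAlgebra
  haveI tow1 : IsScalarTower (W₁.comap (algebraMap K₁ N)) K₁ N :=
    IsScalarTower.of_algebraMap_eq (fun _ => rfl)
  haveI tow2 : IsScalarTower (W₁.comap (algebraMap K₁ N)) W₁ N :=
    IsScalarTower.of_algebraMap_eq (fun _ => rfl)
  have hFS₁' : FS W₁ (algebraMap K₁ N) := hFS₁
  have hw : IsWeaklyUnramified (W₁.comap (algebraMap K₁ N)) W₁ := hFS₁'.1
  haveI hgr : Algebra.IsGeometricallyReduced (ResidueField (W₁.comap (algebraMap K₁ N)))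
      (ResidueField W₁) := by
    have heq : (IsLocalRing.ResidueField.map (inclOfComap W₁ (algebraMap K₁ N))).toAlgebra =
        (inferInstance : Algebra (ResidueField (W₁.comap (algebraMap K₁ N))) (ResidueField W₁)) := by
      apply Algebra.algebra_ext
      intro r
      obtain ⟨x, rfl⟩ := residue_surjective r
      rfl
    have h := hFS₁'.2
    rw [heq] at h
    exact h
  have hsol₂ : IsSolution W₁ K₁ N K₂ :=
    Groth.Agent.S1983.result (W₁.comap (algebraMap K₁ N)) W₁ K₁ N hinjVW hw K₂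
  -- apply to `M₂`
  have hgen' : @Algebra.adjoin N M₂ _ _ N.subtype.toAlgebra (Set.range (algebraMap K₂ M₂)) = ⊤ := by
    letI : Algebra N M₂ := N.subtype.toAlgebra
    rw [eq_top_iff]
    intro x hx0
    clear hx0
    have hx : x ∈ Algebra.adjoin L (Set.range (algebraMap K₂ M₂)) := by
      rw [hgen₂]; exact Algebra.mem_top
    induction hx using Algebra.adjoin_induction with
    | mem y hy => exact Algebra.subset_adjoin hy
    | algebraMap l =>
      exact Subalgebra.algebraMap_mem (Algebra.adjoin N (Set.range (algebraMap K₂ M₂)))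
        (⟨_, hLN l⟩ : N)
    | add y z _ _ hy hz => exact Subalgebra.add_mem _ hy hz
    | mul y z _ _ hy hz => exact Subalgebra.mul_mem _ hy hz
  have hmemW₁ : ∀ x : N, x ∈ W₁ ↔ N.subtype x ∈ W₂ := fun x => by rw [hW₁]; rfl
  have hdom' : Dominates W₁ (N.subtype.comp (algebraMap W₁ N)) W₂ := by
    refine ⟨fun w => ?_, fun w hw => ?_⟩
    · exact (hmemW₁ _).mp w.2
    · have h1 : W₁.valuation (w : N) < 1 := (ValuationSubring.valuation_lt_one_iff W₁ w).mp hw
      show W₂.valuation (N.subtype (w : N)) < 1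
      rw [AbhyankarCore.valuation_lt_one_iff'] at h1 ⊢
      rcases h1 with h0 | hinv
      · left
        rw [h0, map_zero]
      · right
        intro hmem
        apply hinv
        rw [hmemW₁, map_inv₀]
        exact hmem
  exact apply_solution W₁ K₁ N K₂ hsol₂ M₂ N.subtype (algebraMap K₂ M₂)
    (fun c => (hφ₁a c)) hgen' W₂ hdom'

end Ascent

end Groth.Agent.Lib.Helper9.SHSquare
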