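import Mathlib
import Groth.Prelude.Def_EtRam
import Groth.Agent.Lib.Helper9.AbhyankarCore
import Groth.Agent.Lib.Helper9.SHSquare.FS

/-!
# The valuation subring of the fraction field given by a valuation ring (helper9)
-/

universe u

open IsLocalRing EtRam

namespace Groth.Agent.Lib.Helper9.SHSquare

open Groth.Agent.Lib.Helper9

section RangeVS

variable (S Ω : Type*) [CommRing S] [IsDomain S] [ValuationRing S] [Field Ω] [Algebra S Ω]
  [IsFractionRing S Ω]

/-- the valuation subring `S ⊆ Frac S`. -/
def rangeVS : ValuationSubring Ω :=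
  { (algebraMap S Ω).range with
    mem_or_inv_mem' := fun x => by
      rcases ValuationRing.isInteger_or_isInteger S x with h | h
      · left; obtain ⟨a, ha⟩ := h; exact ⟨a, ha⟩
      · right; obtain ⟨a, ha⟩ := h; exact ⟨a, ha⟩ }

theorem mem_rangeVS (x : Ω) : x ∈ rangeVS S Ω ↔ ∃ a, algebraMap S Ω a = x := Iff.rfl

theorem algebraMap_mem_rangeVS (a : S) : algebraMap S Ω a ∈ rangeVS S Ω := ⟨a, rfl⟩

theorem valuation_rangeVS_lt_one (a : S) (ha : a ∈ maximalIdeal S) :
    (rangeVS S Ω).valuation (algebraMap S Ω a) < 1 := by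
  rw [AbhyankarCore.valuation_lt_one_iff']
  by_cases ha0 : a = 0
  · left; rw [ha0, map_zero]
  · right
    rintro ⟨c, hc⟩
    have hne : algebraMap S Ω a ≠ 0 := fun h =>
      ha0 ((IsFractionRing.injective S Ω) (by rw [h, map_zero]))
    have h1 : algebraMap S Ω (a * c) = algebraMap S Ω 1 := by
      rw [map_mul, hc, map_one, mul_inv_cancel₀ hne]
    have h2 : a * c = 1 := IsFractionRing.injective S Ω h1
    exact ((mem_maximalIdeal a).mp ha) (IsUnit.of_mul_eq_one c h2)

end RangeVS

section Cancel'

variable {K₁ F M : Type u} [Field K₁] [Field F] [Field M]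

/-- cancellation, with the intermediate valuation ring given up to equality. -/
theorem FS.cancel' (W : ValuationSubring M) (f₁ : K₁ →+* F) (f₂ : F →+* M)
    (W₀ : ValuationSubring F) (hW₀ : W.comap f₂ = W₀)
    [IsDiscreteValuationRing (W₀.comap f₁)]
    (H : FS W (f₂.comp f₁)) : FS W₀ f₁ := by
  subst hW₀
  exact FS.cancel W f₁ f₂ H

end Cancel'

end Groth.Agent.Lib.Helper9.SHSquare
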