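import Mathlib
import Groth.Prelude.Def_Hensel
import Groth.Agent.Lib.Helper9.Hens.Dimension

/-!
# Fraction fields of ind-étale algebras are separable algebraic (helper9)
-/

universe u

open TensorProduct

namespace Groth.Agent.Lib.Helper9.SHSquare

section Sep

variable {A S K K' : Type u} [CommRing A] [CommRing S] [Algebra A S]
  [Field K] [Algebra A K] [Field K'] [Algebra S K'] [Algebra K K'] [Algebra A K']
  [IsScalarTower A K K'] [IsScalarTower A S K']

/-- elements of an étale-covered algebra are separable over the base field. -/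
theorem isSeparable_algebraMap_of_isEtaleCovered (hS : IsEtaleCovered A S) (s : S) :
    IsSeparable K (algebraMap S K' s) := by
  obtain ⟨E, _, _, _, φ, e, rfl⟩ := hS s
  letI algEK' : Algebra E K' := ((algebraMap S K').comp φ.toRingHom).toAlgebra
  haveI : IsScalarTower A E K' := IsScalarTower.of_algebraMap_eq (fun a => by
    show algebraMap A K' a = algebraMap S K' (φ (algebraMap A E a))
    rw [φ.commutes, ← IsScalarTower.algebraMap_apply A S K'])
  let ψ : K ⊗[A] E →ₐ[K] K' :=
    Algebra.TensorProduct.productLeftAlgHom (Algebra.ofId K K') (IsScalarTower.toAlgHom A E K')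
  have hψ : ψ ((1 : K) ⊗ₜ[A] e) = algebraMap S K' (φ e) := by
    simp [ψ]
    rfl
  haveI : (RingHom.ker ψ).IsPrime := RingHom.ker_isPrime _
  have hsep : IsSeparable K (Ideal.Quotient.mk (RingHom.ker ψ) ((1 : K) ⊗ₜ[A] e)) :=
    Algebra.IsSeparable.isSeparable K _
  have h1 : minpoly K (Ideal.kerLiftAlg ψ
      (Ideal.Quotient.mk (RingHom.ker ψ) ((1 : K) ⊗ₜ[A] e))) =
      minpoly K (Ideal.Quotient.mk (RingHom.ker ψ) ((1 : K) ⊗ₜ[A] e)) :=
    minpoly.algHom_eq _ (Ideal.kerLiftAlg_injective ψ) _
  rw [Ideal.kerLiftAlg_mk, hψ] at h1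
  show (minpoly K (algebraMap S K' (φ e))).Separable
  rw [h1]
  exact hsep

variable [IsFractionRing S K']

/-- the fraction field of an étale-covered domain is separable over the base field. -/
theorem isSeparable_fractionRing_of_isEtaleCovered (hS : IsEtaleCovered A S) :
    Algebra.IsSeparable K K' := by
  rw [← separableClosure.eq_top_iff, eq_top_iff]
  rintro x -
  obtain ⟨s, t, ht, rfl⟩ := IsFractionRing.div_surjective (A := S) x
  have h1 : algebraMap S K' s ∈ separableClosure K K' :=
    mem_separableClosure_iff.mpr (isSeparable_algebraMap_of_isEtaleCovered hS s)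
  have h2 : algebraMap S K' t ∈ separableClosure K K' :=
    mem_separableClosure_iff.mpr (isSeparable_algebraMap_of_isEtaleCovered hS t)
  exact div_mem h1 h2

end Sep

end Groth.Agent.Lib.Helper9.SHSquare
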