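import Mathlib
import Groth.Prelude.Def_Hensel
import Groth.Agent.Lib.Helper9.SHSquare.SHDVR

/-!
# The map between strict henselizations induced by a local homomorphism (helper9)
-/

universe u

open IsLocalRing

namespace Groth.Agent.Lib.Helper9.SHSquare

section Map

variable (A B A' B' : Type u) [CommRing A] [IsLocalRing A] [CommRing B] [IsLocalRing B]
  [Algebra A B] [IsLocalHom (algebraMap A B)]
  [CommRing A'] [IsLocalRing A'] [Algebra A A'] [IsLocalHom (algebraMap A A')]
  [hA' : Hensel.IsStrictHenselization A A']
  [CommRing B'] [IsLocalRing B'] [Algebra B B'] [IsLocalHom (algebraMap B B')]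
  [hB' : Hensel.IsStrictHenselization B B']

/-- a local homomorphism induces a local homomorphism of strict henselizations. -/
theorem exists_strictHenselization_map :
    ∃ g : A' →+* B', g.comp (algebraMap A A') = (algebraMap B B').comp (algebraMap A B) ∧
      IsLocalHom g := by
  haveI hhB' : HenselianLocalRing B' := hB'.henselian
  obtain ⟨f, hf⟩ : ∃ f : A →+* B', f = (algebraMap B B').comp (algebraMap A B) := ⟨_, rfl⟩
  haveI hfloc : IsLocalHom f := by
    rw [hf]
    exact RingHom.isLocalHom_comp _ _
  letI algres : Algebra (ResidueField A) (ResidueField B') := (ResidueField.map f).toAlgebra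
  haveI : IsSepClosed (ResidueField B') := hB'.isSepClosure.sep_closed
  haveI : Algebra.IsSeparable (ResidueField A) (ResidueField A') := hA'.isSepClosure.separable
  obtain ⟨τ₀⟩ : Nonempty (ResidueField A' →ₐ[ResidueField A] ResidueField B') :=
    ⟨IsSepClosed.lift⟩
  have hτ : τ₀.toRingHom.comp (ResidueField.map (algebraMap A A')) = ResidueField.map f := by
    ext x
    exact τ₀.commutes x
  obtain ⟨g, ⟨hg1, hg2⟩, -⟩ := hA'.universal B' f τ₀.toRingHom hτ
  refine ⟨g, by rw [hg1, hf], ⟨fun x hx => ?_⟩⟩
  by_contra hcon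
  have h1 : residue A' x = 0 := (residue_eq_zero_iff x).mpr ((mem_maximalIdeal _).mpr hcon)
  have h2 : residue B' (g x) = 0 := by
    rw [hg2, h1, map_zero]
  exact ((mem_maximalIdeal _).mp ((residue_eq_zero_iff (g x)).mp h2)) hx

end Map

section Inj

variable {A' B' : Type*} [CommRing A'] [IsDomain A'] [IsDiscreteValuationRing A']
  [CommRing B'] [IsDomain B']

/-- a ring hom out of a DVR which does not kill a uniformizer is injective. -/
theorem injective_of_map_irreducible_ne_zero (g : A' →+* B') [IsLocalRing B'] [IsLocalHom g]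
    (ϖ : A') (hϖ : Irreducible ϖ) (h : g ϖ ≠ 0) : Function.Injective g := by
  rw [injective_iff_map_eq_zero]
  intro x hx
  by_contra hx0
  obtain ⟨n, u, rfl⟩ := IsDiscreteValuationRing.eq_unit_mul_pow_irreducible hx0 hϖ
  rw [map_mul, map_pow] at hx
  rcases mul_eq_zero.mp hx with h1 | h1
  · exact (u.isUnit.map g).ne_zero h1
  · exact h (eq_zero_of_pow_eq_zero h1)

end Inj

end Groth.Agent.Lib.Helper9.SHSquare
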