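import Mathlib

/-!
# A finite extension capturing a finite extension of an algebraic extension (helper9)
-/

universe u

open Polynomial

namespace Groth.Agent.Lib.Helper9.SHSquare

section Split

variable (K K' K₁' : Type u) [Field K] [Field K'] [Field K₁'] [Algebra K K'] [Algebra K' K₁']
  [Algebra K K₁'] [IsScalarTower K K' K₁'] [Algebra.IsAlgebraic K K'] [FiniteDimensional K' K₁']

/-- For `K'/K` algebraic and `K₁'/K'` finite there is a finite extension `K₁/K` such that in any
field `Ω` receiving `K'` and `K₁` compatibly, `K₁'` embeds over `K'` into the compositum. -/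
theorem exists_split :
    ∃ (K₁ : Type u) (_ : Field K₁) (_ : Algebra K K₁), FiniteDimensional K K₁ ∧
      (Algebra.IsSeparable K K' → Algebra.IsSeparable K' K₁' → Algebra.IsSeparable K K₁) ∧
      ∀ (Ω : Type u) [Field Ω] (ιK' : K' →+* Ω) (ιK₁ : K₁ →+* Ω),
        (∀ c : K, ιK' (algebraMap K K' c) = ιK₁ (algebraMap K K₁ c)) →
        ∃ j : K₁' →+* Ω, (∀ x, j (algebraMap K' K₁' x) = ιK' x) ∧
          ∀ x, j x ∈ Subfield.closure (Set.range ιK' ∪ Set.range ιK₁) := by
  classical
  haveI : Algebra.IsAlgebraic K' K₁' := Algebra.IsAlgebraic.of_finite K' K₁'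
  haveI : Algebra.IsAlgebraic K K₁' := Algebra.IsAlgebraic.trans K K' K₁'
  obtain ⟨n, b⟩ : ∃ n : ℕ, Nonempty (Module.Basis (Fin n) K' K₁') :=
    ⟨_, ⟨Module.finBasis K' K₁'⟩⟩
  obtain ⟨b⟩ := b
  obtain ⟨P, hP⟩ : ∃ P : K[X], P = ∏ i, minpoly K (b i) := ⟨_, rfl⟩
  have hb_int : ∀ i, IsIntegral K (b i) := fun i => Algebra.IsIntegral.isIntegral (b i)
  have hP0 : P ≠ 0 := by
    rw [hP]; exact Finset.prod_ne_zero_iff.mpr (fun i _ => minpoly.ne_zero (hb_int i))
  have hdvdP : ∀ i, minpoly K (b i) ∣ P := fun i => by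
    rw [hP]; exact Finset.dvd_prod_of_mem _ (Finset.mem_univ i)
  refine ⟨P.SplittingField, inferInstance, inferInstance, ?_, ?_, ?_⟩
  · exact IsSplittingField.finiteDimensional P.SplittingField P
  · intro h1 h2
    haveI : Algebra.IsSeparable K K₁' := Algebra.IsSeparable.trans K K' K₁'
    have sp : P.IsSplittingField K P.SplittingField := inferInstance
    rw [← IntermediateField.isSeparable_top (F := K) (E := P.SplittingField),
      ← (_root_.isSplittingField_iff_intermediateField.mp sp).2,
      IntermediateField.isSeparable_adjoin_iff_isSeparable]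
    intro x hx
    have hx0 : aeval x P = 0 := aeval_eq_zero_of_mem_rootSet hx
    have hx1 : ∏ i, aeval x (minpoly K (b i)) = 0 := by
      rw [← map_prod, ← hP]; exact hx0
    rw [Finset.prod_eq_zero_iff] at hx1
    obtain ⟨i, -, hi⟩ := hx1
    have hsep : (minpoly K (b i)).Separable := Algebra.IsSeparable.isSeparable K (b i)
    exact hsep.of_dvd (minpoly.dvd K x hi)
  · intro Ω _ ιK' ιK₁ hcompat
    obtain ⟨N, hN⟩ : ∃ N : Subfield Ω, N = Subfield.closure (Set.range ιK' ∪ Set.range ιK₁) :=
      ⟨_, rfl⟩
    have hK'N : ∀ x, ιK' x ∈ N := fun x => by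
      rw [hN]; exact Subfield.subset_closure (Or.inl ⟨x, rfl⟩)
    have hK₁N : ∀ x, ιK₁ x ∈ N := fun x => by
      rw [hN]; exact Subfield.subset_closure (Or.inr ⟨x, rfl⟩)
    letI algK'N : Algebra K' N := (ιK'.codRestrict N hK'N).toAlgebra
    obtain ⟨ψ, hψ⟩ : ∃ ψ : P.SplittingField →+* N, ψ = ιK₁.codRestrict N hK₁N := ⟨_, rfl⟩
    have hsplit : ∀ i, ((minpoly K' (b i)).map (algebraMap K' N)).Splits := by
      intro i
      have hdvd : minpoly K' (b i) ∣ (minpoly K (b i)).map (algebraMap K K') :=
        minpoly.dvd_map_of_isScalarTower K K' (b i)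
      have h1 : ((minpoly K (b i)).map (algebraMap K P.SplittingField)).Splits := by
        have hPs : (P.map (algebraMap K P.SplittingField)).Splits := SplittingField.splits P
        exact Splits.of_dvd hPs (Polynomial.map_ne_zero hP0) (Polynomial.map_dvd _ (hdvdP i))
      have h2 : (((minpoly K (b i)).map (algebraMap K P.SplittingField)).map ψ).Splits :=
        h1.map ψ
      have h3 : ((minpoly K (b i)).map (algebraMap K K')).map (algebraMap K' N) =
          ((minpoly K (b i)).map (algebraMap K P.SplittingField)).map ψ := by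
        rw [Polynomial.map_map, Polynomial.map_map]
        congr 1
        ext c
        rw [hψ]
        exact hcompat c
      rw [← h3] at h2
      refine Splits.of_dvd h2 ?_ (Polynomial.map_dvd _ hdvd)
      exact Polynomial.map_ne_zero (Polynomial.map_ne_zero (minpoly.ne_zero (hb_int i)))
    have hS : IntermediateField.adjoin K' (Set.range b) = ⊤ := by
      rw [eq_top_iff]
      intro x _
      have hx : x ∈ Submodule.span K' (Set.range b) := b.mem_span x
      have hle : Submodule.span K' (Set.range b) ≤
          (IntermediateField.adjoin K' (Set.range b)).toSubalgebra.toSubmodule :=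
        Submodule.span_le.mpr (fun y hy => IntermediateField.subset_adjoin K' _ hy)
      exact hle hx
    obtain ⟨φ⟩ := IntermediateField.nonempty_algHom_of_adjoin_splits (F := K') (E := K₁')
      (K := N) (S := Set.range b)
      (fun s hs => by
        obtain ⟨i, rfl⟩ := hs
        exact ⟨Algebra.IsIntegral.isIntegral _, hsplit i⟩) hS
    refine ⟨N.subtype.comp φ.toRingHom, ?_, ?_⟩
    · intro x
      show ((φ (algebraMap K' K₁' x) : N) : Ω) = ιK' x
      rw [φ.commutes]
      rfl
    · intro x
      rw [← hN]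
      exact (φ x).2

end Split

end Groth.Agent.Lib.Helper9.SHSquare
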