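import Mathlib
import Groth.Prelude.Def_EtRam
import Groth.Prelude.Def_Hensel
import Groth.Agent.Lib.Helper9.SHSquare.Ascent
import Groth.Agent.Lib.Helper9.SHSquare.RangeVS
import Groth.Agent.Lib.Helper9.SHSquare.SHDVR
import Groth.Agent.Lib.Helper9.SHSquare.SHMap
import Groth.Agent.Lib.Helper9.SHSquare.Split
import Groth.Agent.Lib.Helper9.SHSquare.SHFrac
import Groth.Agent.Lib.Helper9.Hens.Dimension
import Groth.Agent.Lib.Helper9.CommonExt

/-!
# Solutions descend along the strict henselization square (helper9)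
-/

universe u

open IsLocalRing EtRam

namespace Groth.Agent.Lib.Helper9.SHSquare

open Groth.Agent.Lib.Helper9

section Descent

variable (A B K L : Type u) [CommRing A] [IsDomain A] [IsDiscreteValuationRing A]
  [CommRing B] [IsDomain B] [IsDiscreteValuationRing B] [Algebra A B]
  [IsLocalHom (algebraMap A B)]
  [Field K] [Field L] [Algebra A K] [IsFractionRing A K] [Algebra B L] [IsFractionRing B L]
  [Algebra K L] [Algebra A L] [IsScalarTower A K L] [IsScalarTower A B L]
  (A' B' K' L' : Type u) [CommRing A'] [IsDomain A'] [IsDiscreteValuationRing A']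
  [CommRing B'] [IsDomain B'] [IsDiscreteValuationRing B'] [Field K'] [Field L']
  [Algebra A A'] [Algebra B B'] [Algebra A' B'] [Algebra A B'] [IsScalarTower A B B']
  [IsScalarTower A A' B']
  [Algebra A' K'] [IsFractionRing A' K'] [Algebra B' L'] [IsFractionRing B' L']
  [Algebra K' L'] [Algebra A' L'] [IsScalarTower A' K' L'] [IsScalarTower A' B' L']
  [Algebra K K'] [Algebra A K'] [IsScalarTower A K K'] [IsScalarTower A A' K']
  [Algebra L L'] [Algebra B L'] [IsScalarTower B L L'] [IsScalarTower B B' L']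
  [IsLocalHom (algebraMap A A')] [IsLocalHom (algebraMap B B')] [IsLocalHom (algebraMap A' B')]

include A B A' B' in
/-- the square of fraction fields commutes. -/
theorem square_comm (c : K) :
    algebraMap K' L' (algebraMap K K' c) = algebraMap L L' (algebraMap K L c) := by
  have h : (algebraMap K' L').comp (algebraMap K K') = (algebraMap L L').comp (algebraMap K L) := by
    apply IsLocalization.ringHom_ext (nonZeroDivisors A)
    ext a
    simp only [RingHom.comp_apply]
    rw [← IsScalarTower.algebraMap_apply A K K', IsScalarTower.algebraMap_apply A A' K',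
      ← IsScalarTower.algebraMap_apply A' K' L', IsScalarTower.algebraMap_apply A' B' L',
      ← IsScalarTower.algebraMap_apply A A' B', IsScalarTower.algebraMap_apply A B B',
      ← IsScalarTower.algebraMap_apply B B' L', IsScalarTower.algebraMap_apply B L L',
      ← IsScalarTower.algebraMap_apply A K L, IsScalarTower.algebraMap_apply A B L]
  exact DFunLike.congr_fun h c

variable [Hensel.IsStrictHenselization A A'] [Hensel.IsStrictHenselization B B']

include A A' in
set_option maxHeartbeats 4000000 in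
set_option synthInstance.maxHeartbeats 400000 in
/-- the local part of the descent, with the strict henselization of `W` given. -/
theorem descent_local_aux (hinjAB : Function.Injective (algebraMap A B))
    (K₁' : Type u) [Field K₁'] [Algebra K' K₁'] [FiniteDimensional K' K₁']
    (hsol' : IsSolution B' K' L' K₁')
    (K₁ : Type u) [Field K₁] [Algebra K K₁] [FiniteDimensional K K₁]
    (hemb : ∀ (Ω : Type u) [Field Ω] (ιK' : K' →+* Ω) (ιK₁ : K₁ →+* Ω),
        (∀ c : K, ιK' (algebraMap K K' c) = ιK₁ (algebraMap K K₁ c)) →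
        ∃ j : K₁' →+* Ω, (∀ x, j (algebraMap K' K₁' x) = ιK' x) ∧
          ∀ x, j x ∈ Subfield.closure (Set.range ιK' ∪ Set.range ιK₁))
    (M : Type u) [Field M] [Algebra K M] [Algebra L M] [Algebra K₁ M] [IsScalarTower K L M]
    [IsScalarTower K K₁ M]
    (hgen : Algebra.adjoin L (Set.range (algebraMap K₁ M)) = ⊤)
    (W : ValuationSubring M) (hdom : Dominates B ((algebraMap L M).comp (algebraMap B L)) W)
    [IsDiscreteValuationRing W] [Algebra B W]
    (hBW : ∀ b : B, ((algebraMap B W b : W) : M) = algebraMap L M (algebraMap B L b))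
    [IsLocalHom (algebraMap B W)]
    (Wsh : Type u) [CommRing Wsh] [IsDomain Wsh] [IsDiscreteValuationRing Wsh] [Algebra W Wsh]
    [IsLocalHom (algebraMap W Wsh)] [Hensel.IsStrictHenselization W Wsh] :
    FS W (algebraMap K₁ M) := by
  classical
  -- injectivity of `W → Wsh`
  haveI ffW : Module.FaithfullyFlat W Wsh := HensK.faithfullyFlat_of_isStrictHenselization W Wsh
  have hinjWsh : Function.Injective (algebraMap W Wsh) := FaithfulSMul.algebraMap_injective W Wsh
  -- the map `B' → Wsh`
  obtain ⟨gW, hgW, hgWloc⟩ := exists_strictHenselization_map B W B' Wsh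
  haveI := hgWloc
  have hgW' : ∀ b : B, gW (algebraMap B B' b) = algebraMap W Wsh (algebraMap B W b) :=
    fun b => DFunLike.congr_fun hgW b
  have hinjBL : Function.Injective (algebraMap B L) := IsFractionRing.injective B L
  have hgWinj : Function.Injective gW := by
    obtain ⟨ϖ, hϖ⟩ := IsDiscreteValuationRing.exists_irreducible B
    have hmB : maximalIdeal B = Ideal.span {ϖ} := hϖ.maximalIdeal_eq
    have hmB' : maximalIdeal B' = Ideal.span {algebraMap B B' ϖ} := by
      rw [← HensK.map_maximalIdeal_of_isStrictHenselization B B', hmB, Ideal.map_span,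
        Set.image_singleton]
    have hirr : Irreducible (algebraMap B B' ϖ) :=
      (IsDiscreteValuationRing.irreducible_iff_uniformizer _).mpr hmB'
    refine injective_of_map_irreducible_ne_zero gW _ hirr ?_
    rw [hgW']
    intro h0
    have h1 : algebraMap B W ϖ = 0 := hinjWsh (by rw [h0, map_zero])
    have h2 : algebraMap L M (algebraMap B L ϖ) = 0 := by
      rw [← hBW, h1]; rfl
    have h3 : ϖ = 0 := hinjBL ((algebraMap L M).injective (by rw [h2, map_zero, map_zero]))
    exact hϖ.ne_zero h3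
  -- the big field
  obtain ⟨Ω, hΩ⟩ : ∃ Ω : Type u, Ω = FractionRing Wsh := ⟨_, rfl⟩
  subst hΩ
  obtain ⟨WΩ, hWΩ⟩ : ∃ WΩ : ValuationSubring (FractionRing Wsh),
    WΩ = rangeVS Wsh (FractionRing Wsh) := ⟨_, rfl⟩
  have hinjΩ : Function.Injective (algebraMap Wsh (FractionRing Wsh)) :=
    IsFractionRing.injective Wsh (FractionRing Wsh)
  have hinjWΩ : Function.Injective ((algebraMap Wsh (FractionRing Wsh)).comp (algebraMap W Wsh)) :=
    hinjΩ.comp hinjWsh
  obtain ⟨ιM, hιM⟩ : ∃ ιM : M →+* FractionRing Wsh, ∀ w : W,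
      ιM (w : M) = algebraMap Wsh (FractionRing Wsh) (algebraMap W Wsh w) :=
    ⟨IsFractionRing.lift hinjWΩ, fun w => IsFractionRing.lift_algebraMap hinjWΩ w⟩
  have hinjL' : Function.Injective ((algebraMap Wsh (FractionRing Wsh)).comp gW) :=
    hinjΩ.comp hgWinj
  obtain ⟨ιL', hιL'⟩ : ∃ ιL' : L' →+* FractionRing Wsh, ∀ b : B',
      ιL' (algebraMap B' L' b) = algebraMap Wsh (FractionRing Wsh) (gW b) :=
    ⟨IsFractionRing.lift hinjL', fun b => IsFractionRing.lift_algebraMap hinjL' b⟩
  -- compatibility over `L`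
  have hLeq : ιL'.comp (algebraMap L L') = ιM.comp (algebraMap L M) := by
    apply IsLocalization.ringHom_ext (nonZeroDivisors B)
    ext b
    simp only [RingHom.comp_apply]
    rw [← IsScalarTower.algebraMap_apply B L L', IsScalarTower.algebraMap_apply B B' L', hιL',
      hgW', ← hBW]
    exact (hιM (algebraMap B W b)).symm
  have hL : ∀ l : L, ιL' (algebraMap L L' l) = ιM (algebraMap L M l) :=
    fun l => DFunLike.congr_fun hLeq l
  obtain ⟨ιK', hιK'⟩ : ∃ ιK' : K' →+* FractionRing Wsh, ιK' = ιL'.comp (algebraMap K' L') :=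
    ⟨_, rfl⟩
  obtain ⟨ιK₁, hιK₁⟩ : ∃ ιK₁ : K₁ →+* FractionRing Wsh, ιK₁ = ιM.comp (algebraMap K₁ M) :=
    ⟨_, rfl⟩
  have hιK'a : ∀ x, ιK' x = ιL' (algebraMap K' L' x) := fun x => by rw [hιK']; rfl
  have hιK₁a : ∀ x, ιK₁ x = ιM (algebraMap K₁ M x) := fun x => by rw [hιK₁]; rfl
  have hcompatK : ∀ c : K, ιK' (algebraMap K K' c) = ιK₁ (algebraMap K K₁ c) := by
    intro c
    rw [hιK'a, hιK₁a, square_comm A B K L A' B' K' L' c, hL,
      ← IsScalarTower.algebraMap_apply K L M, ← IsScalarTower.algebraMap_apply K K₁ M]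
  obtain ⟨j, hj, hjmem⟩ := hemb (FractionRing Wsh) ιK' ιK₁ hcompatK
  -- the compositum `F = K'·K₁`
  obtain ⟨F, hF⟩ : ∃ F : Subfield (FractionRing Wsh),
    F = Subfield.closure (Set.range ιK' ∪ Set.range ιK₁) := ⟨_, rfl⟩
  have hK'F : ∀ x, ιK' x ∈ F := fun x => by
    rw [hF]; exact Subfield.subset_closure (Or.inl ⟨x, rfl⟩)
  have hK₁F : ∀ x, ιK₁ x ∈ F := fun x => by
    rw [hF]; exact Subfield.subset_closure (Or.inr ⟨x, rfl⟩)
  have hjF : ∀ x, j x ∈ F := fun x => by rw [hF]; exact hjmem x
  haveI : Algebra.IsAlgebraic K K₁ := Algebra.IsAlgebraic.of_finite K K₁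
  letI algK'F : Algebra K' F := (ιK'.codRestrict F hK'F).toAlgebra
  letI algK₁'F : Algebra K₁' F := (j.codRestrict F hjF).toAlgebra
  haveI towK'K₁'F : IsScalarTower K' K₁' F :=
    IsScalarTower.of_algebraMap_eq (fun x => Subtype.ext (hj x).symm)
  have hgenF : Algebra.adjoin K' (Set.range (ιK₁.codRestrict F hK₁F)) = ⊤ :=
    SepSol.Descent.adjoin_eq_top_of_closure ιK' ιK₁ hcompatK F hF hK'F hK₁F
  haveI finK'F : Module.Finite K' F := by
    letI algK₁F : Algebra K₁ F := (ιK₁.codRestrict F hK₁F).toAlgebra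
    letI algKF : Algebra K F := ((algebraMap K' F).comp (algebraMap K K')).toAlgebra
    haveI : IsScalarTower K K' F := IsScalarTower.of_algebraMap_eq (fun _ => rfl)
    haveI : IsScalarTower K K₁ F :=
      IsScalarTower.of_algebraMap_eq (fun c => Subtype.ext (hcompatK c))
    exact PISep.finite_of_adjoin_eq_top K K' K₁ F hgenF
  haveI finK₁'F : Module.Finite K₁' F := Module.Finite.of_restrictScalars_finite K' K₁' F
  -- the upstairs solution ascends to `F`
  have hsolF : IsSolution B' K' L' F := ascent A' B' K' L' K₁' F hsol'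
  -- domination upstairs
  have hdomΩ : Dominates B' (ιL'.comp (algebraMap B' L')) WΩ := by
    rw [hWΩ]
    refine ⟨fun b => ?_, fun b hb => ?_⟩
    · show ιL' (algebraMap B' L' b) ∈ _
      rw [hιL']; exact algebraMap_mem_rangeVS _ _ _
    · show (rangeVS Wsh (FractionRing Wsh)).valuation (ιL' (algebraMap B' L' b)) < 1
      rw [hιL']
      apply valuation_rangeVS_lt_one
      exact (mem_maximalIdeal _).mpr (fun hu =>
        ((mem_maximalIdeal _).mp hb) (isUnit_of_map_unit gW b hu))
  -- the compositum `M'' = L'·F`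
  obtain ⟨M'', hM''⟩ : ∃ M'' : Subfield (FractionRing Wsh),
    M'' = Subfield.closure (Set.range ιL' ∪ Set.range F.subtype) := ⟨_, rfl⟩
  have hL'M'' : ∀ x, ιL' x ∈ M'' := fun x => by
    rw [hM'']; exact Subfield.subset_closure (Or.inl ⟨x, rfl⟩)
  have hFM'' : ∀ x : F, F.subtype x ∈ M'' := fun x => by
    rw [hM'']; exact Subfield.subset_closure (Or.inr ⟨x, rfl⟩)
  haveI : Algebra.IsAlgebraic K' F := Algebra.IsAlgebraic.of_finite K' F
  have hFS₂ : FS (WΩ.comap M''.subtype) (F.subtype.codRestrict M'' hFM'') :=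
    solution_in_big B' K' L' F hsolF (FractionRing Wsh) ιL' F.subtype
      (fun c => by rw [← hιK'a]; rfl) M'' hM'' hL'M'' hFM'' WΩ hdomΩ
  -- the part `K₁ → F`, via `A → A'`
  haveI ffA : Module.FaithfullyFlat A A' := HensK.faithfullyFlat_of_isStrictHenselization A A'
  have hinjAA' : Function.Injective (algebraMap A A') := FaithfulSMul.algebraMap_injective A A'
  have hwAA' : IsWeaklyUnramified A A' := HensK.map_maximalIdeal_of_isStrictHenselization A A'
  haveI hsepres : Algebra.IsSeparable (ResidueField A) (ResidueField A') :=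
    (Hensel.IsStrictHenselization.isSepClosure (R := A) (S := A')).separable
  haveI hgrres : Algebra.IsGeometricallyReduced (ResidueField A) (ResidueField A') :=
    (Algebra.isGeometricallyReduced_field_iff _ _).mpr
      Groth.Agent.Lib.Helper50.isReduced_tensor_of_isSeparable
  have hsolA : IsSolution A' K K' K₁ := Groth.Agent.S1983.result A A' K K' hinjAA' hwAA' K₁
  obtain ⟨W'', hW''⟩ : ∃ W'' : ValuationSubring M'', W'' = WΩ.comap M''.subtype := ⟨_, rfl⟩
  rw [← hW''] at hFS₂
  have hdomF : Dominates A' ((ιK'.codRestrict F hK'F).comp (algebraMap A' K'))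
      (W''.comap (F.subtype.codRestrict M'' hFM'')) := by
    have hval : ∀ a : A', ιK' (algebraMap A' K' a) =
        ιL' (algebraMap B' L' (algebraMap A' B' a)) := by
      intro a
      rw [hιK'a, ← IsScalarTower.algebraMap_apply A' K' L', IsScalarTower.algebraMap_apply A' B' L']
    refine ⟨fun a => ?_, fun a ha => ?_⟩
    · rw [hW'']
      show ιK' (algebraMap A' K' a) ∈ WΩ
      rw [hval]; exact hdomΩ.1 _
    · rw [AbhyankarCore.valuation_comap_lt_one_iff, hW'',
        AbhyankarCore.valuation_comap_lt_one_iff]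
      show WΩ.valuation (ιK' (algebraMap A' K' a)) < 1
      rw [hval]
      refine hdomΩ.2 _ ?_
      exact (mem_maximalIdeal _).mpr (fun hu =>
        ((mem_maximalIdeal _).mp ha) (isUnit_of_map_unit (algebraMap A' B') a hu))
  have hFS₁ : FS (W''.comap (F.subtype.codRestrict M'' hFM'')) (ιK₁.codRestrict F hK₁F) :=
    apply_solution A' K K' K₁ hsolA F (ιK'.codRestrict F hK'F) (ιK₁.codRestrict F hK₁F)
      (fun c => Subtype.ext (hcompatK c)) hgenF _ hdomF
  have hFS₁₂ : FS W'' ((F.subtype.codRestrict M'' hFM'').comp (ιK₁.codRestrict F hK₁F)) :=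
    FS.comp W'' _ _ hFS₁ hFS₂
  -- `M` maps into `M''`
  have hMmem : ∀ x : M, ιM x ∈ M'' := by
    intro x
    have hx : x ∈ Algebra.adjoin L (Set.range (algebraMap K₁ M)) := by
      rw [hgen]; exact Algebra.mem_top
    induction hx using Algebra.adjoin_induction with
    | mem y hy =>
      obtain ⟨k, rfl⟩ := hy
      rw [← hιK₁a]
      exact hFM'' ⟨ιK₁ k, hK₁F k⟩
    | algebraMap l => rw [← hL l]; exact hL'M'' _
    | add x y _ _ hx hy => rw [map_add]; exact M''.add_mem hx hy
    | mul x y _ _ hx hy => rw [map_mul]; exact M''.mul_mem hx hy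
  obtain ⟨g₂, hg₂⟩ : ∃ g₂ : M →+* M'', g₂ = ιM.codRestrict M'' hMmem := ⟨_, rfl⟩
  have hcomp : (F.subtype.codRestrict M'' hFM'').comp (ιK₁.codRestrict F hK₁F) =
      g₂.comp (algebraMap K₁ M) := by
    ext x
    rw [hg₂]
    show ιK₁ x = ιM (algebraMap K₁ M x)
    exact hιK₁a x
  have hFS₃ : FS W'' (g₂.comp (algebraMap K₁ M)) := FS.congr_hom hcomp hFS₁₂
  -- `W'' ∩ M = W`
  have hWeq : W''.comap g₂ = W := by
    symm
    apply CommonExt.valuationSubring_eq_of_le_of_dominates
    · intro x hx
      rw [ValuationSubring.mem_comap, hW'', ValuationSubring.mem_comap, hg₂]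
      show ιM x ∈ WΩ
      rw [hWΩ]
      exact ⟨algebraMap W Wsh ⟨x, hx⟩, (hιM ⟨x, hx⟩).symm⟩
    · intro x hx hxinv hmem
      rw [ValuationSubring.mem_comap, hW'', ValuationSubring.mem_comap, hg₂] at hmem
      have hmem' : ιM x⁻¹ ∈ WΩ := hmem
      rw [hWΩ] at hmem'
      obtain ⟨c, hc⟩ := hmem'
      have hx0 : x ≠ 0 := fun h => hxinv (by rw [h, inv_zero]; exact W.zero_mem)
      have h1 : ιM x = algebraMap Wsh (FractionRing Wsh) (algebraMap W Wsh ⟨x, hx⟩) :=
        hιM ⟨x, hx⟩
      have h2 : algebraMap Wsh (FractionRing Wsh) (algebraMap W Wsh ⟨x, hx⟩ * c) =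
          algebraMap Wsh (FractionRing Wsh) 1 := by
        rw [map_mul, hc, ← h1, map_one, ← map_mul, mul_inv_cancel₀ hx0, map_one]
      have h3 : algebraMap W Wsh ⟨x, hx⟩ * c = 1 := hinjΩ h2
      have hu : IsUnit (algebraMap W Wsh ⟨x, hx⟩) := IsUnit.of_mul_eq_one c h3
      have hu' : IsUnit (⟨x, hx⟩ : W) := isUnit_of_map_unit (algebraMap W Wsh) _ hu
      obtain ⟨v, hv⟩ := hu'.exists_right_inv
      have hv' : x * (v : M) = 1 := congrArg Subtype.val hv
      have hv'' : (v : M) = x⁻¹ := eq_inv_of_mul_eq_one_right hv'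
      apply hxinv
      rw [← hv'']
      exact v.2
  -- `W ∩ K₁` is a DVR
  letI algAK₁ : Algebra A K₁ := ((algebraMap K K₁).comp (algebraMap A K)).toAlgebra
  haveI towAKK₁ : IsScalarTower A K K₁ := IsScalarTower.of_algebraMap_eq (fun _ => rfl)
  have hmaxAB : ∀ x : A, x ∈ maximalIdeal A → algebraMap A B x ∈ maximalIdeal B := by
    intro x hx
    exact (mem_maximalIdeal _).mpr (fun hu =>
      ((mem_maximalIdeal _).mp hx) (isUnit_of_map_unit (algebraMap A B) x hu))
  have hcomm₁ : ∀ x : A, algebraMap K₁ M (algebraMap K K₁ (algebraMap A K x)) =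
      algebraMap L M (algebraMap B L (algebraMap A B x)) := by
    intro x
    rw [← IsScalarTower.algebraMap_apply K K₁ M, IsScalarTower.algebraMap_apply K L M,
      ← IsScalarTower.algebraMap_apply A K L, ← IsScalarTower.algebraMap_apply A B L]
  have hdomV : Dominates A (algebraMap A K₁) (W.comap (algebraMap K₁ M)) := by
    refine ⟨fun x => ?_, fun x hx => ?_⟩
    · show algebraMap K₁ M (algebraMap K K₁ (algebraMap A K x)) ∈ W
      rw [hcomm₁]
      exact hdom.1 _
    · rw [AbhyankarCore.valuation_comap_lt_one_iff]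
      show W.valuation (algebraMap K₁ M (algebraMap K K₁ (algebraMap A K x))) < 1
      rw [hcomm₁]
      exact hdom.2 _ (hmaxAB x hx)
  haveI hdvrV : IsDiscreteValuationRing (W.comap (algebraMap K₁ M)) :=
    KADominates.isDiscreteValuationRing_of_dominates_finite A K _ hdomV
  exact FS.cancel' W'' (algebraMap K₁ M) g₂ W hWeq hFS₃

include A A' in
set_option maxHeartbeats 4000000 in
set_option synthInstance.maxHeartbeats 400000 in
/-- **Solutions descend along the strict henselization square.** -/
theorem descent (hinjAB : Function.Injective (algebraMap A B))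
    (K₁' : Type u) [Field K₁'] [Algebra K' K₁'] [FiniteDimensional K' K₁']
    (hsol' : IsSolution B' K' L' K₁') :
    ∃ (K₁ : Type u) (_ : Field K₁) (_ : Algebra K K₁), FiniteDimensional K K₁ ∧
      (Algebra.IsSeparable K' K₁' → Algebra.IsSeparable K K₁) ∧ IsSolution B K L K₁ := by
  classical
  haveI hsepKK' : Algebra.IsSeparable K K' :=
    isSeparable_fractionRing_of_isEtaleCovered (A := A) (S := A')
      (isEtaleCovered_of_isStrictHenselization A A')
  letI algKK₁' : Algebra K K₁' := ((algebraMap K' K₁').comp (algebraMap K K')).toAlgebra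
  haveI towKK'K₁' : IsScalarTower K K' K₁' := IsScalarTower.of_algebraMap_eq (fun _ => rfl)
  obtain ⟨K₁, fK₁, aK₁, hfin, hsep, hemb⟩ := exists_split K K' K₁'
  refine ⟨K₁, fK₁, aK₁, hfin, fun h => hsep hsepKK' h, ?_⟩
  intro M _ _ _ _ _ _ hgen W hdom
  haveI hfinM : Module.Finite L M := PISep.finite_of_adjoin_eq_top K L K₁ M hgen
  letI algBM : Algebra B M := ((algebraMap L M).comp (algebraMap B L)).toAlgebra
  haveI towBLM : IsScalarTower B L M := IsScalarTower.of_algebraMap_eq (fun _ => rfl)
  have hdom' : Dominates B (algebraMap B M) W := hdom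
  haveI hdvrW : IsDiscreteValuationRing W :=
    KADominates.isDiscreteValuationRing_of_dominates_finite B L W hdom'
  letI algBW : Algebra B W := (RingHom.codRestrict (algebraMap B M) W hdom.1).toAlgebra
  haveI locBW : IsLocalHom (algebraMap B W) := by
    constructor
    intro b hb
    by_contra hnu
    have hbm : b ∈ maximalIdeal B := (mem_maximalIdeal _).mpr hnu
    have hlt := hdom.2 b hbm
    have h1 : W.valuation ((algebraMap B W b : W) : M) = 1 :=
      (ValuationSubring.valuation_eq_one_iff W _).mp hb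
    have h2 : ((algebraMap B W b : W) : M) = ((algebraMap L M).comp (algebraMap B L)) b := rfl
    rw [h2] at h1
    rw [h1] at hlt
    exact lt_irrefl _ hlt
  obtain ⟨hdomWsh, hdvrWsh⟩ := isDVR_of_isStrictHenselization W (HensK.StrictHenselization W)
  exact descent_local_aux A B K L A' B' K' L' hinjAB K₁' hsol' K₁ hemb M hgen W hdom
    (fun b => rfl) (HensK.StrictHenselization W)

end Descent

end Groth.Agent.Lib.Helper9.SHSquare
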